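import Mathlib
import Cfsg.Prelude.Def_DStar

set_option autoImplicit false

namespace Cfsg.Agent.Lib.DStar

open Subgroup
open scoped commutatorElement

variable {G : Type*} [Group G]

/-- If all commutators of generators commute with all generators, the class is at most two. -/
theorem class_two_of_generators (s : Set G)
    (h : ∀ u ∈ s, ∀ v ∈ s, ∀ w ∈ s, Commute ⁅u, v⁆ w) :
    ⁅⁅closure s, closure s⁆, closure s⁆ = ⊥ := by
  have key : ∀ c : G, (∀ w ∈ s, Commute c w) → ∀ y ∈ closure s, Commute c y := by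
    intro c hc y hy
    have : closure s ≤ centralizer {c} := by
      rw [closure_le]; intro w hw
      simp only [SetLike.mem_coe, mem_centralizer_iff, Set.mem_singleton_iff]
      rintro m rfl; exact hc w hw
    exact (mem_centralizer_iff.1 (this hy)) c rfl
  let K : Subgroup G := centralizer (closure s : Set G)
  have step : ∀ u : G, (∀ v ∈ s, ⁅u, v⁆ ∈ K) → ∀ y ∈ closure s, ⁅u, y⁆ ∈ K := by
    intro u hu y hy
    induction hy using closure_induction with
    | mem v hv => exact hu v hv
    | one => simp [one_mem]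
    | mul a b ha hb iha ihb =>
      have e : ⁅u, a * b⁆ = ⁅u, a⁆ * (a * ⁅u, b⁆ * a⁻¹) := by
        simp only [commutatorElement_def]; group
      have c : a * ⁅u, b⁆ * a⁻¹ = ⁅u, b⁆ := by
        have : a * ⁅u, b⁆ = ⁅u, b⁆ * a := (mem_centralizer_iff.1 ihb) a ha
        rw [this]; group
      rw [e, c]; exact mul_mem iha ihb
    | inv a ha iha =>
      have e : ⁅u, a⁻¹⁆ = a⁻¹ * ⁅u, a⁆⁻¹ * a := by
        simp only [commutatorElement_def]; group
      have c : a⁻¹ * ⁅u, a⁆⁻¹ = ⁅u, a⁆⁻¹ * a⁻¹ :=
        (mem_centralizer_iff.1 (inv_mem iha)) a⁻¹ (inv_mem ha)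
      rw [e, c, inv_mul_cancel_right]; exact inv_mem iha
  have h1 : ∀ u ∈ s, ∀ y ∈ closure s, ⁅u, y⁆ ∈ K := fun u hu =>
    step u fun v hv => mem_centralizer_iff.2 fun y hy => (key _ (h u hu v hv) y hy).symm.eq
  rw [commutator_eq_bot_iff_le_centralizer, commutator_le]
  intro a ha b hb
  refine step a (fun v hv => ?_) b hb
  rw [← commutatorElement_inv]
  exact inv_mem (h1 v hv a ha)

/-- An element acting on an abelian subgroup with centralized commutators gives class two. -/
theorem class_two_of_abelian (A : Subgroup G) (hA : IsMulCommutative A) (x : G)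
    (h : ∀ a ∈ A, ∀ w : G, (w ∈ A ∨ w = x) → Commute ⁅a, x⁆ w) :
    ⁅⁅A ⊔ zpowers x, A ⊔ zpowers x⁆, A ⊔ zpowers x⁆ = ⊥ := by
  have e : A ⊔ zpowers x = closure ((A : Set G) ∪ {x}) := by
    rw [Subgroup.closure_union, Subgroup.closure_eq, zpowers_eq_closure]
  rw [e]
  refine class_two_of_generators _ ?_
  intro u hu v hv w hw
  have hw' : w ∈ A ∨ w = x := by rcases hw with hw | hw
                                 · exact Or.inl hw
                                 · exact Or.inr hw
  rcases hu with hu | hu <;> rcases hv with hv | hv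
  · have : u * v = v * u := congrArg Subtype.val (hA.is_comm.comm ⟨u, hu⟩ ⟨v, hv⟩)
    rw [commutatorElement_eq_one_iff_mul_comm.2 this]; exact Commute.one_left w
  · rw [Set.mem_singleton_iff.1 hv]; exact h u hu w hw'
  · rw [Set.mem_singleton_iff.1 hu, ← commutatorElement_inv]
    exact (h v hv w hw').inv_left
  · rw [Set.mem_singleton_iff.1 hu, Set.mem_singleton_iff.1 hv, commutatorElement_self]
    exact Commute.one_left w

/-- In a nilpotent group a normal subgroup not inside `H` has an element outside `H`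
whose commutators land in `H`. -/
theorem exists_notMem_commutator_mem [Group.IsNilpotent G] (N H : Subgroup G) [hN : N.Normal]
    (hNH : ¬ N ≤ H) : ∃ x ∈ N, x ∉ H ∧ ∀ g : G, ⁅x, g⁆ ∈ N ⊓ H := by
  classical
  obtain ⟨n, hn⟩ := Group.IsNilpotent.nilpotent (G := G)
  have hex : ∃ i, ¬ N ⊓ Subgroup.upperCentralSeries G i ≤ H := ⟨n, by rw [hn, inf_top_eq]; exact hNH⟩
  have hi : ¬ N ⊓ Subgroup.upperCentralSeries G (Nat.find hex) ≤ H := Nat.find_spec hex
  obtain ⟨x, hx, hxH⟩ := SetLike.not_le_iff_exists.1 hi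
  refine ⟨x, hx.1, hxH, fun g => ?_⟩
  rcases Nat.eq_zero_or_pos (Nat.find hex) with h0 | h0
  · rw [h0, Subgroup.upperCentralSeries_zero, inf_bot_eq] at hx
    exact absurd (mem_bot.1 hx ▸ one_mem H) hxH
  · obtain ⟨j, hj⟩ := Nat.exists_eq_add_one_of_ne_zero h0.ne'
    have hmin : N ⊓ Subgroup.upperCentralSeries G j ≤ H := by
      by_contra hc
      exact absurd (Nat.find_le (h := hex) hc) (by omega)
    have hxj : x ∈ Subgroup.upperCentralSeries G (j + 1) := hj ▸ hx.2
    have hc : ⁅x, g⁆ ∈ Subgroup.upperCentralSeries G j := by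
      rw [commutatorElement_def]; exact (Subgroup.mem_upperCentralSeries_succ_iff.1 hxj) g
    have hcN : ⁅x, g⁆ ∈ N := by
      rw [commutatorElement_def, mul_assoc, mul_assoc, ← mul_assoc g]
      exact mul_mem hx.1 (hN.conj_mem _ (inv_mem hx.1) g)
    exact ⟨hcN, hmin ⟨hcN, hc⟩⟩

/-- Every member of `dStarFamily` centralizes every normal abelian subgroup. -/
theorem le_centralizer_of_normal_abelian [Group.IsNilpotent G] {A : Subgroup G}
    (hA : A ∈ Cfsg.dStarFamily G) (N : Subgroup G) [N.Normal] (hN : IsMulCommutative N) :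
    A ≤ centralizer (N : Set G) := by
  rw [le_centralizer_iff]
  by_contra hc
  obtain ⟨x, hxN, hxA, hx⟩ := exists_notMem_commutator_mem N _ hc
  apply hxA
  refine mem_centralizer_iff.2 fun a ha => hA.2 x ?_ a ha
  refine class_two_of_abelian A hA.1 x fun b _ w hw => ?_
  rw [← commutatorElement_inv]
  refine Commute.inv_left ?_
  rcases hw with hw | rfl
  · exact ((mem_centralizer_iff.1 (hx b).2) w hw).symm
  · exact congrArg Subtype.val (hN.is_comm.comm ⟨_, (hx b).1⟩ ⟨w, hxN⟩)

/-- A maximal normal abelian subgroup of a nilpotent group contains its centralizer. -/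
theorem centralizer_le_of_maximal_normal_abelian [Group.IsNilpotent G] (N : Subgroup G)
    [hNn : N.Normal] (hN : IsMulCommutative N)
    (hmax : ∀ B : Subgroup G, B.Normal → IsMulCommutative B → N ≤ B → B = N) :
    centralizer (N : Set G) ≤ N := by
  by_contra hc
  obtain ⟨x, hxC, hxN, hx⟩ := exists_notMem_commutator_mem (centralizer (N : Set G)) N hc
  let B : Subgroup G := closure ((N : Set G) ∪ {x})
  have hNB : N ≤ B := fun y hy => subset_closure (Or.inl hy)
  have hxB : x ∈ B := subset_closure (Or.inr rfl)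
  have hBn : B.Normal := by
    constructor
    intro y hy g
    induction hy using closure_induction with
    | mem z hz =>
      rcases hz with hz | hz
      · exact hNB (hNn.conj_mem z hz g)
      · rw [Set.mem_singleton_iff.1 hz]
        have : g * x * g⁻¹ = ⁅x, g⁆⁻¹ * x := by simp only [commutatorElement_def]; group
        rw [this]; exact mul_mem (hNB (inv_mem (hx g).2)) hxB
    | one => simp [one_mem]
    | mul a b _ _ iha ihb => rw [← conj_mul]; exact mul_mem iha ihb
    | inv a _ iha => rw [← conj_inv]; exact inv_mem iha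
  have hBc : IsMulCommutative B := by
    refine isMulCommutative_closure ?_
    intro u hu v hv
    rcases hu with hu | hu <;> rcases hv with hv | hv
    · exact congrArg Subtype.val (hN.is_comm.comm ⟨u, hu⟩ ⟨v, hv⟩)
    · rw [Set.mem_singleton_iff.1 hv]; exact (mem_centralizer_iff.1 hxC) u hu
    · rw [Set.mem_singleton_iff.1 hu]; exact ((mem_centralizer_iff.1 hxC) v hv).symm
    · rw [Set.mem_singleton_iff.1 hu, Set.mem_singleton_iff.1 hv]
  exact hxN (hmax B hBn hBc hNB ▸ hxB)

theorem exists_maximal_normal_abelian [Finite G] :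
    ∃ N : Subgroup G, N.Normal ∧ IsMulCommutative N ∧
      ∀ B : Subgroup G, B.Normal → IsMulCommutative B → N ≤ B → B = N := by
  obtain ⟨N, hN⟩ := (Set.toFinite {N : Subgroup G | N.Normal ∧ IsMulCommutative N}).exists_maximal
    ⟨⊥, inferInstance, inferInstance⟩
  exact ⟨N, hN.1.1, hN.1.2, fun B h1 h2 h3 => le_antisymm (hN.2 ⟨h1, h2⟩ h3) h3⟩

/-- `D*` lies in every maximal normal abelian subgroup. -/
theorem dStar_le_maximal_normal_abelian [Group.IsNilpotent G] (N : Subgroup G) (hNn : N.Normal)
    (hN : IsMulCommutative N)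
    (hmax : ∀ B : Subgroup G, B.Normal → IsMulCommutative B → N ≤ B → B = N) :
    Cfsg.dStar G ≤ N := by
  haveI := hNn
  exact sSup_le fun A hA => (le_centralizer_of_normal_abelian hA N hN).trans
    (centralizer_le_of_maximal_normal_abelian N hN hmax)

theorem dStar_mem [Finite G] [Group.IsNilpotent G] : Cfsg.dStar G ∈ Cfsg.dStarFamily G := by
  obtain ⟨N, hNn, hN, hmax⟩ := exists_maximal_normal_abelian (G := G)
  have hle := dStar_le_maximal_normal_abelian N hNn hN hmax
  refine ⟨⟨⟨fun a b => Subtype.ext ?_⟩⟩, fun x hx a ha => ?_⟩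
  · have := hN.is_comm.comm ⟨a.1, hle a.2⟩ ⟨b.1, hle b.2⟩
    simpa using congrArg Subtype.val this
  · have : Cfsg.dStar G ≤ centralizer {x} := sSup_le fun A hA a ha => by
      refine mem_centralizer_iff.2 ?_
      intro m hm
      rw [Set.mem_singleton_iff.1 hm]
      refine (hA.2 x ?_ a ha).symm
      have hAD : A ⊔ zpowers x ≤ Cfsg.dStar G ⊔ zpowers x := sup_le_sup_right (le_sSup hA) _
      exact le_bot_iff.1 (hx ▸ commutator_mono (commutator_mono hAD hAD) hAD)
    exact ((mem_centralizer_iff.1 (this ha)) x rfl).symm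

theorem mem_family_le_dStar {A : Subgroup G} (hA : A ∈ Cfsg.dStarFamily G) : A ≤ Cfsg.dStar G :=
  le_sSup hA

theorem center_mem_family : Subgroup.center G ∈ Cfsg.dStarFamily G :=
  ⟨inferInstance, fun x _ _ ha => ((mem_center_iff.1 ha) x).symm⟩

end Cfsg.Agent.Lib.DStar
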