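import Cfsg.Agent.Lib.DStar.Basic

set_option autoImplicit false

namespace Cfsg.Agent.Lib.DStar

open Subgroup
open scoped commutatorElement

variable {G : Type*} [Group G]

/-- `A` is a member of the family defining `D*(P)`, read inside `G`. -/
def MemFamilyIn (P A : Subgroup G) : Prop :=
  A ≤ P ∧ IsMulCommutative A ∧ ∀ x ∈ P,
    ⁅⁅A ⊔ zpowers x, A ⊔ zpowers x⁆, A ⊔ zpowers x⁆ = ⊥ → ∀ a ∈ A, a * x = x * a

theorem MemFamilyIn.mono {P Q A : Subgroup G} (h : MemFamilyIn P A) (hAQ : A ≤ Q) (hQ : Q ≤ P) :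
    MemFamilyIn Q A :=
  ⟨hAQ, h.2.1, fun x hx => h.2.2 x (hQ hx)⟩

theorem isMulCommutative_map {H : Type*} [Group H] (f : G →* H) {A : Subgroup G}
    (hA : IsMulCommutative A) : IsMulCommutative (A.map f) := by
  refine ⟨⟨?_⟩⟩
  rintro ⟨_, a, ha, rfl⟩ ⟨_, b, hb, rfl⟩
  apply Subtype.ext
  show f a * f b = f b * f a
  rw [← map_mul, ← map_mul]
  exact congrArg f (congrArg Subtype.val (hA.is_comm.comm ⟨a, ha⟩ ⟨b, hb⟩))

theorem map_class_two {H : Type*} [Group H] (f : G →* H) (A : Subgroup G) (x : G) :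
    ⁅⁅A.map f ⊔ zpowers (f x), A.map f ⊔ zpowers (f x)⁆, A.map f ⊔ zpowers (f x)⁆ =
      (⁅⁅A ⊔ zpowers x, A ⊔ zpowers x⁆, A ⊔ zpowers x⁆).map f := by
  simp only [map_commutator, Subgroup.map_sup, MonoidHom.map_zpowers]

theorem MemFamilyIn.map_conj {P A : Subgroup G} (h : MemFamilyIn P A) (g : G) :
    MemFamilyIn (P.map (MulAut.conj g).toMonoidHom) (A.map (MulAut.conj g).toMonoidHom) := by
  refine ⟨map_mono h.1, isMulCommutative_map _ h.2.1, ?_⟩
  rintro _ ⟨x, hx, rfl⟩ h2 _ ⟨a, ha, rfl⟩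
  rw [map_class_two, map_eq_bot_iff_of_injective _ (MulAut.conj g).injective] at h2
  rw [← map_mul, ← map_mul, h.2.2 x hx h2 a ha]

theorem memFamilyIn_map_subtype {P : Subgroup G} {A : Subgroup P} (hA : A ∈ Cfsg.dStarFamily P) :
    MemFamilyIn P (A.map P.subtype) := by
  refine ⟨map_subtype_le A, isMulCommutative_map _ hA.1, fun x hx h2 => ?_⟩
  have h3 : (⁅⁅A ⊔ zpowers (⟨x, hx⟩ : P), A ⊔ zpowers (⟨x, hx⟩ : P)⁆,
      A ⊔ zpowers (⟨x, hx⟩ : P)⁆).map P.subtype = ⊥ := by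
    rw [← map_class_two]; exact h2
  rw [map_eq_bot_iff_of_injective _ P.subtype_injective] at h3
  rintro _ ⟨a, ha, rfl⟩
  exact congrArg Subtype.val (hA.2 ⟨x, hx⟩ h3 a ha)

theorem MemFamilyIn.le_dStarOf {P A : Subgroup G} (h : MemFamilyIn P A) :
    A ≤ Cfsg.dStarOf P := by
  have hmem : A.subgroupOf P ∈ Cfsg.dStarFamily P := by
    refine ⟨⟨⟨fun a b => Subtype.ext (Subtype.ext ?_)⟩⟩, fun x h2 a ha => Subtype.ext ?_⟩
    · have := congrArg Subtype.val (h.2.1.is_comm.comm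
        (⟨P.subtype a.1, a.2⟩ : A) ⟨P.subtype b.1, b.2⟩)
      simpa using this
    · refine h.2.2 x.1 x.2 ?_ a.1 ha
      have hmapA : (A.subgroupOf P).map P.subtype = A := by
        rw [subgroupOf_map_subtype, inf_eq_left.2 h.1]
      have := map_class_two P.subtype (A.subgroupOf P) x
      rw [hmapA, h2, Subgroup.map_bot] at this
      exact this
  intro a ha
  exact ⟨⟨a, h.1 ha⟩, mem_family_le_dStar hmem ha, rfl⟩

theorem dStarOf_memFamilyIn [Finite G] {p : ℕ} [Fact p.Prime] {P : Subgroup G}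
    (hP : IsPGroup p P) : MemFamilyIn P (Cfsg.dStarOf P) := by
  haveI := hP.isNilpotent
  exact memFamilyIn_map_subtype dStar_mem

/-- Two members of the family of a `p`-group commute. -/
theorem MemFamilyIn.commute [Finite G] {p : ℕ} [Fact p.Prime] {P A B : Subgroup G}
    (hP : IsPGroup p P) (hA : MemFamilyIn P A) (hB : MemFamilyIn P B) {a b : G}
    (ha : a ∈ A) (hb : b ∈ B) : a * b = b * a :=
  congrArg Subtype.val ((dStarOf_memFamilyIn hP).2.1.is_comm.comm
    ⟨a, hA.le_dStarOf ha⟩ ⟨b, hB.le_dStarOf hb⟩)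

/-- `D*(P)` is normalized by the normalizer of `P`. -/
theorem normalizer_le_normalizer_dStarOf [Finite G] {p : ℕ} [Fact p.Prime] {P : Subgroup G}
    (hP : IsPGroup p P) :
    normalizer (P : Set G) ≤ normalizer (Cfsg.dStarOf P : Set G) := by
  have key : ∀ g ∈ normalizer (P : Set G), ∀ d ∈ Cfsg.dStarOf P,
      g * d * g⁻¹ ∈ Cfsg.dStarOf P := by
    intro g hg d hd
    have e : P.map (MulAut.conj g).toMonoidHom = P := by
      ext y
      rw [mem_map]
      constructor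
      · rintro ⟨x, hx, rfl⟩; exact (mem_normalizer_iff.1 hg x).1 hx
      · intro hy
        refine ⟨g⁻¹ * y * g, (mem_normalizer_iff.1 hg _).2 ?_, ?_⟩
        · simpa [mul_assoc] using hy
        · simp [mul_assoc]
    have h' := (dStarOf_memFamilyIn hP).map_conj g
    rw [e] at h'
    exact h'.le_dStarOf ⟨d, hd, rfl⟩
  intro g hg
  rw [mem_normalizer_iff]
  intro d
  refine ⟨key g hg d, fun h => ?_⟩
  have := key g⁻¹ (inv_mem hg) _ h
  simpa [mul_assoc] using this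

end Cfsg.Agent.Lib.DStar
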