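import Mathlib

/-! Thompson's replacement for abelian subgroups: `A ↦ [d, A] C_A([d, A])`. -/

set_option autoImplicit false

namespace Cfsg.Agent.Lib.DStar

open Subgroup
open scoped Pointwise

variable {G : Type*} [Group G]

theorem commute_of_isMulCommutative {A : Subgroup G} (hA : IsMulCommutative A) {a b : G}
    (ha : a ∈ A) (hb : b ∈ A) : a * b = b * a :=
  congrArg Subtype.val (hA.is_comm.comm ⟨a, ha⟩ ⟨b, hb⟩)

/-- Some element of `D` moves `A` but all its commutators with `A` normalize `A`. -/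
theorem exists_moving_element [Finite G] {p : ℕ} [Fact p.Prime] (hG : IsPGroup p G)
    (A D : Subgroup G) (hAD : A ≤ normalizer (D : Set G))
    (hnot : ¬ D ≤ normalizer (A : Set G)) :
    ∃ d ∈ D, d ∉ normalizer (A : Set G) ∧
      ∀ a ∈ A, a * d * a⁻¹ * d⁻¹ ∈ normalizer (A : Set G) := by
  set N := normalizer (A : Set G) ⊓ (A ⊔ D) with hN
  set Y := A ⊔ D with hY
  have hlt : N.subgroupOf Y < ⊤ := by
    rw [lt_top_iff_ne_top, ne_eq, subgroupOf_eq_top]
    exact fun h => hnot (le_sup_right.trans (h.trans inf_le_left))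
  haveI : Group.IsNilpotent Y := (hG.to_subgroup Y).isNilpotent
  obtain ⟨y, hy, hyN⟩ := SetLike.exists_of_lt
    (Group.normalizerCondition_of_isNilpotent (G := Y) (N.subgroupOf Y) hlt)
  have hy' : (y : G) ∈ ((A : Set G) * (D : Set G)) := by
    rw [← coe_mul_of_left_le_normalizer_right A D hAD]; exact y.2
  obtain ⟨a0, ha0, d, hd, hyd⟩ := hy'
  have haN : ∀ a ∈ A, a ∈ N := fun a ha => ⟨le_normalizer ha, mem_sup_left ha⟩
  have hyd' : (y : G) = a0 * d := hyd.symm
  have hdN : ∀ x ∈ N, d * x * d⁻¹ ∈ N := by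
    intro x hx
    have h1 : (y : G) * x * (y : G)⁻¹ ∈ N := (mem_normalizer_iff.1 hy ⟨x, hx.2⟩).1 hx
    have h2 : d * x * d⁻¹ = a0⁻¹ * ((y : G) * x * (y : G)⁻¹) * a0 := by rw [hyd']; group
    rw [h2]
    exact N.mul_mem (N.mul_mem (N.inv_mem (haN a0 ha0)) h1) (haN a0 ha0)
  refine ⟨d, hd, fun h => hyN ?_, fun a ha => ?_⟩
  · refine ⟨?_, y.2⟩
    show (y : G) ∈ normalizer (A : Set G)
    rw [hyd']
    exact mul_mem (le_normalizer ha0) h
  · have h1 := hdN a⁻¹ (N.inv_mem (haN a ha))
    have h2 : a * d * a⁻¹ * d⁻¹ = a * (d * a⁻¹ * d⁻¹) := by group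
    rw [h2]
    exact (N.mul_mem (haN a ha) h1).1

/-- The replacement step: `[d, A] C_A([d, A])` is abelian and at least as large as `A`. -/
theorem replacement_step [Finite G] (A : Subgroup G) (hA : IsMulCommutative A) (d : G)
    (M : Subgroup G) (hM : M = closure ((fun a => a * d * a⁻¹ * d⁻¹) '' (A : Set G)))
    (hMc : IsMulCommutative M) :
    IsMulCommutative ↥(M ⊔ (A ⊓ centralizer (M : Set G))) ∧
      Nat.card A ≤ Nat.card ↥(M ⊔ (A ⊓ centralizer (M : Set G))) := by
  let C : Subgroup G := A ⊓ centralizer (M : Set G)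
  let m : G → G := fun a => a * d * a⁻¹ * d⁻¹
  have hmM : ∀ a ∈ A, m a ∈ M := fun a ha => hM ▸ subset_closure ⟨a, ha, rfl⟩
  have hMC : M ≤ normalizer (C : Set G) := by
    intro w hw
    have : ∀ c ∈ C, w * c * w⁻¹ = c := fun c hc => by
      rw [(mem_centralizer_iff.1 hc.2 w hw), mul_inv_cancel_right]
    refine mem_normalizer_iff.2 fun c => ⟨fun hc => by rw [this c hc]; exact hc, fun hc => ?_⟩
    have h2 := mem_centralizer_iff.1 hc.2 w hw
    rw [inv_mul_cancel_right] at h2
    have : w * c * w⁻¹ = c := mul_left_cancel h2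
    rwa [this] at hc
  refine ⟨?_, ?_⟩
  · rw [show M ⊔ C = closure ((M : Set G) ∪ (C : Set G)) by
      rw [Subgroup.closure_union, Subgroup.closure_eq, Subgroup.closure_eq]]
    refine isMulCommutative_closure ?_
    intro u hu v hv
    rcases hu with hu | hu <;> rcases hv with hv | hv
    · exact commute_of_isMulCommutative hMc hu hv
    · exact mem_centralizer_iff.1 hv.2 u hu
    · exact (mem_centralizer_iff.1 hu.2 v hv).symm
    · exact commute_of_isMulCommutative hA hu.1 hv.1
  -- the injection `A / C → M / (M ∩ A)`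
  have key : ∀ a ∈ A, ∀ b ∈ A, (m b)⁻¹ * m a ∈ A → a⁻¹ * b ∈ C := by
    intro a ha b hb he
    set e := (m b)⁻¹ * m a with hedef
    have heM : e ∈ M := M.mul_mem (M.inv_mem (hmM b hb)) (hmM a ha)
    refine ⟨A.mul_mem (A.inv_mem ha) hb, ?_⟩
    have h1 : ∀ u v : G, m (u * v) = u * m v * u⁻¹ * m u := fun u v => by simp only [m]; group
    have hgen : ∀ c ∈ A, a * m c * a⁻¹ = b * m c * b⁻¹ := by
      intro c hc
      have hab : m (a * c) = m (c * a) := by rw [commute_of_isMulCommutative hA ha hc]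
      have hab' : m (b * c) = m (c * b) := by rw [commute_of_isMulCommutative hA hb hc]
      have hea : m a = m b * e := by rw [hedef, mul_inv_cancel_left]
      have hce : c * e * c⁻¹ = e := by
        rw [commute_of_isMulCommutative hA hc he, mul_inv_cancel_right]
      have hec : e * m c = m c * e := commute_of_isMulCommutative hMc heM (hmM c hc)
      calc a * m c * a⁻¹ = m (a * c) * (m a)⁻¹ := by rw [h1]; group
        _ = c * m b * c⁻¹ * (c * e * c⁻¹) * m c * e⁻¹ * (m b)⁻¹ := by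
            rw [hab, h1, hea]; group
        _ = c * m b * c⁻¹ * (e * m c) * e⁻¹ * (m b)⁻¹ := by rw [hce]; group
        _ = (c * m b * c⁻¹ * m c) * (m b)⁻¹ := by rw [hec]; group
        _ = m (b * c) * (m b)⁻¹ := by rw [hab', h1]
        _ = b * m c * b⁻¹ := by rw [h1]; group
    have hle : M ≤ centralizer {a⁻¹ * b} := by
      rw [hM, closure_le]
      rintro _ ⟨c, hc, rfl⟩
      refine mem_centralizer_singleton_iff.2 ?_
      have h2 := hgen c hc
      calc m c * (a⁻¹ * b) = a⁻¹ * (a * m c * a⁻¹) * b := by group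
        _ = a⁻¹ * (b * m c * b⁻¹) * b := by rw [h2]
        _ = a⁻¹ * b * m c := by group
    exact mem_centralizer_iff.2 fun w hw => mem_centralizer_singleton_iff.1 (hle hw)
  have hrel : C.relIndex A ≤ A.relIndex M := by
    refine Nat.card_le_card_of_injective
      (fun q : A ⧸ C.subgroupOf A =>
        ((⟨m (q.out : G), hmM _ q.out.2⟩ : M) : M ⧸ A.subgroupOf M)) ?_
    intro q r hqr
    have h := QuotientGroup.eq.1 hqr
    rw [mem_subgroupOf] at h
    rw [← q.out_eq', ← r.out_eq', QuotientGroup.eq, mem_subgroupOf]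
    have h' : (m (r.out : G))⁻¹ * m (q.out : G) ∈ A := by
      have := A.inv_mem h
      simpa using this
    simpa using key _ q.out.2 _ r.out.2 h'
  have e1 : Nat.card A = Nat.card C * C.relIndex A := by
    rw [← relIndex_bot_left, ← relIndex_bot_left, relIndex_mul_relIndex _ _ _ bot_le inf_le_left]
  have e2 : Nat.card ↥(M ⊔ C) = Nat.card C * C.relIndex (M ⊔ C) := by
    rw [← relIndex_bot_left, ← relIndex_bot_left, relIndex_mul_relIndex _ _ _ bot_le le_sup_right]
  have e3 : A.relIndex M ≤ C.relIndex (M ⊔ C) := by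
    calc A.relIndex M ≤ C.relIndex M :=
          Nat.le_of_dvd (Nat.pos_of_ne_zero index_ne_zero_of_finite)
            (relIndex_dvd_of_le_left M inf_le_left)
      _ ≤ C.relIndex (M ⊔ C) := relIndex_le_of_le_right le_sup_left index_ne_zero_of_finite
  rw [e1]
  change _ ≤ Nat.card ↥(M ⊔ C)
  rw [e2]
  exact Nat.mul_le_mul le_rfl (hrel.trans e3)

/-- Thompson replacement for abelian subgroups of largest order. -/
theorem exists_replacement [Finite G] {p : ℕ} [Fact p.Prime] (hG : IsPGroup p G)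
    (A D : Subgroup G) (hA : IsMulCommutative A)
    (hmax : ∀ B : Subgroup G, IsMulCommutative B → Nat.card B ≤ Nat.card A)
    (hD : IsMulCommutative D) (hAD : A ≤ normalizer (D : Set G))
    (hnot : ¬ D ≤ normalizer (A : Set G)) :
    ∃ B : Subgroup G, IsMulCommutative B ∧ Nat.card B = Nat.card A ∧ A ⊓ D < B ⊓ D ∧
      B ≤ normalizer (A : Set G) ∧ B ≤ A ⊔ (D ⊓ normalizer (A : Set G)) ∧
      B ≤ normalClosure (A : Set G) := by
  obtain ⟨d, hd, hdA, hdc⟩ := exists_moving_element hG A D hAD hnot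
  set M := closure ((fun a => a * d * a⁻¹ * d⁻¹) '' (A : Set G)) with hM
  have hMD : M ≤ D := by
    rw [hM, closure_le]
    rintro _ ⟨a, ha, rfl⟩
    exact mul_mem ((mem_normalizer_iff.1 (hAD ha) d).1 hd) (inv_mem hd)
  have hMN : M ≤ normalizer (A : Set G) := by
    rw [hM, closure_le]
    rintro _ ⟨a, ha, rfl⟩
    exact hdc a ha
  have hMc : IsMulCommutative M := ⟨⟨fun u v => Subtype.ext
    (commute_of_isMulCommutative hD (hMD u.2) (hMD v.2))⟩⟩
  obtain ⟨hBc, hBcard⟩ := replacement_step A hA d M hM hMc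
  set B := M ⊔ (A ⊓ centralizer (M : Set G)) with hB
  refine ⟨B, hBc, le_antisymm (hmax B hBc) hBcard, ?_, ?_, ?_, ?_⟩
  · refine lt_of_le_of_ne (le_inf (fun x hx => mem_sup_right ⟨hx.1, ?_⟩) inf_le_right) fun h => ?_
    · exact mem_centralizer_iff.2 fun w hw => commute_of_isMulCommutative hD (hMD hw) hx.2
    · apply hdA
      have hMA : M ≤ A := fun x hx => (h ▸ mem_inf.2 ⟨mem_sup_left hx, hMD hx⟩ : x ∈ A ⊓ D).1
      have hcl : ∀ a ∈ A, d * a * d⁻¹ ∈ A := fun a ha => by
        have h1 : a⁻¹ * d * a⁻¹⁻¹ * d⁻¹ ∈ A := hMA (subset_closure ⟨a⁻¹, inv_mem ha, rfl⟩)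
        have h2 : d * a * d⁻¹ = a * (a⁻¹ * d * a⁻¹⁻¹ * d⁻¹) := by group
        rw [h2]; exact mul_mem ha h1
      exact mem_normalizer_fintype hcl
  · exact sup_le hMN (inf_le_left.trans le_normalizer)
  · exact sup_le ((le_inf hMD hMN).trans le_sup_right) (inf_le_left.trans le_sup_left)
  · refine sup_le ?_ (inf_le_left.trans le_normalClosure)
    rw [hM, closure_le]
    rintro _ ⟨a, ha, rfl⟩
    have h2 : a * d * a⁻¹ * d⁻¹ = a * (d * a⁻¹ * d⁻¹) := by group
    show a * d * a⁻¹ * d⁻¹ ∈ normalClosure (A : Set G)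
    rw [h2]
    exact mul_mem (le_normalClosure ha)
      ((normalClosure_normal).conj_mem _ (le_normalClosure (inv_mem ha)) d)

end Cfsg.Agent.Lib.DStar
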